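import Groth.Prelude.Def_EGA4b
import Groth.Prelude.Def_Brnch
import Groth.Agent.Unibr10.Product
import Groth.Agent.S2670
import Groth.Agent.CAlgMisc2.NormalTransport
import Groth.Agent.Disc12.OmegaFlat
import Groth.Agent.EGA43.ConnFlat.FormalFibres

/-!
# Branches of the completion (EGA IV 7.6)

For a Noetherian local ring with geometrically normal formal fibres the normalisation of the completion is the
completion tensored with the normalisation.
-/

set_option autoImplicit false
set_option backward.isDefEq.respectTransparency false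
set_option linter.style.haveILetI false

universe u

open TensorProduct IsLocalRing

namespace Groth.Agent.EGA43.Branches

open Groth.Agent Groth.Agent.Unibr10

theorem toNormRed_isIntegral (A : Type u) [CommRing A] : (toNormRed A).IsIntegral :=
  (RingHom.isIntegral_of_surjective _ Ideal.Quotient.mk_surjective).trans _ _
    (algebraMap_isIntegral_iff.mpr inferInstance)

theorem isReduced_normRed (A : Type u) [CommRing A] : IsReduced (CAlg2.normRed A) :=
  haveI : IsReduced (CAlg2.red A) := (Ideal.isRadical_iff_quotient_reduced _).mp (Ideal.radical_isRadical _)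
  haveI : IsReduced (FractionRing (CAlg2.red A)) :=
    isReduced_localizationPreserves.{u} (nonZeroDivisors (CAlg2.red A)) (FractionRing (CAlg2.red A)) inferInstance
  isReduced_of_injective (integralClosure (CAlg2.red A) (FractionRing (CAlg2.red A))).val Subtype.val_injective

theorem isNormalRing_normRed (A : Type u) [CommRing A] (h : (minimalPrimes A).Finite) :
    EGA4.IsNormalRing (CAlg2.normRed A) := by
  haveI := h.to_subtype
  obtain ⟨e, -⟩ := exists_normRed_equiv A h
  refine CAlgMisc2.isNormalRing_of_equiv e.symm (CAlgMisc2.isNormalRing_pi _ fun p => ?_)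
  haveI := p.2.1.1
  haveI : IsDomain (CAlg2.red (A ⧸ p.1)) :=
    (Ideal.Quotient.isDomain_iff_prime _).mpr ((nilradical_eq_zero (A ⧸ p.1)).symm ▸ Ideal.isPrime_bot)
  haveI : IsIntegrallyClosed (CAlg2.normRed (A ⧸ p.1)) :=
    integralClosure.isIntegrallyClosedOfFiniteExtension (FractionRing (CAlg2.red (A ⧸ p.1)))
  exact fun q _ => ⟨IsLocalization.isDomain_localization q.primeCompl_le_nonZeroDivisors,
    isIntegrallyClosed_of_isLocalization _ q.primeCompl q.primeCompl_le_nonZeroDivisors⟩

/-- A normal integral birational extension is the normalisation of the reduction. -/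
theorem exists_normRed_equiv_of_model {B T : Type u} [CommRing B] [CommRing T] (f : B →+* T) (hint : f.IsIntegral)
    (hT : EGA4.IsNormalRing T) (hker : ∀ b, f b = 0 → IsNilpotent b)
    (hfrac : ∀ t, ∃ b s : B, f s ∈ nonZeroDivisors T ∧ t * f s = f b) :
    ∃ e : CAlg2.normRed B ≃+* T, ∀ b, e (toNormRed B b) = f b := by
  classical
  haveI := CommAlg6.NormalTensor.isReduced_of_isNormalRing hT
  let R := CAlg2.red B
  let g : R →+* T := Ideal.Quotient.lift (nilradical B) f fun b hb => ((mem_nilradical.1 hb).map f).eq_zero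
  have hg : ∀ b, g (Ideal.Quotient.mk _ b) = f b := fun b => rfl
  have hginj : Function.Injective g := (injective_iff_map_eq_zero g).2 fun x hx => by
    obtain ⟨b, rfl⟩ := Ideal.Quotient.mk_surjective x
    exact Ideal.Quotient.eq_zero_iff_mem.2 (mem_nilradical.2 (hker b hx))
  have hnzd : ∀ x : R, g x ∈ nonZeroDivisors T → x ∈ nonZeroDivisors R := fun x hx => by
    rw [mem_nonZeroDivisors_iff_right] at hx ⊢
    exact fun y hy => hginj (by rw [hx (g y) (by rw [← map_mul, hy, map_zero]), map_zero])
  have hnzd' : ∀ x : R, x ∈ nonZeroDivisors R → g x ∈ nonZeroDivisors T := fun x hx => by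
    rw [mem_nonZeroDivisors_iff_right] at hx ⊢
    intro t ht
    obtain ⟨b, s, hs, hts⟩ := hfrac t
    have h1 : Ideal.Quotient.mk (nilradical B) b * x = 0 := hginj (by
      rw [map_mul, hg, ← hts, map_zero]
      linear_combination (f s) * ht)
    have h2 : f b = 0 := by rw [← hg, hx _ h1, map_zero]
    exact (mul_right_mem_nonZeroDivisors_eq_zero_iff hs).1 (hts.trans h2)
  let FT := FractionRing T
  letI : Algebra R T := g.toAlgebra
  haveI : IsScalarTower R T FT := inferInstance
  have hTinj := IsFractionRing.injective T FT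
  haveI hFR : IsLocalization (nonZeroDivisors R) FT := by
    refine (isLocalization_iff (nonZeroDivisors R) FT).2 ⟨fun y => IsLocalization.map_units FT ⟨g y, hnzd' _ y.2⟩,
      fun z => ?_, fun {x y} h => ⟨1, by rw [hginj (hTinj h)]⟩⟩
    obtain ⟨⟨t, u, hu⟩, hz⟩ := IsLocalization.surj (nonZeroDivisors T) z
    obtain ⟨b, s, hs, hts⟩ := hfrac t
    obtain ⟨b', s', hs', hus⟩ := hfrac u
    have hb' : f b' ∈ nonZeroDivisors T := hus ▸ mul_mem hu hs'
    refine ⟨⟨Ideal.Quotient.mk _ (b * s'), Ideal.Quotient.mk _ (b' * s),
      hnzd _ (by rw [hg, map_mul]; exact mul_mem hb' hs)⟩, ?_⟩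
    show z * algebraMap T FT (g (Ideal.Quotient.mk _ (b' * s))) = algebraMap T FT (g (Ideal.Quotient.mk _ (b * s')))
    rw [hg, hg, map_mul f b' s, map_mul f b s', ← hus, ← hts, map_mul, map_mul, map_mul, map_mul]
    simp only at hz
    rw [← hz]
    ring
  haveI : Algebra.IsIntegral R T := ⟨fun t => by
    obtain ⟨p, hp, hpt⟩ := hint t
    exact ⟨p.map (Ideal.Quotient.mk _), hp.map _, (Polynomial.eval₂_map _ _ _).trans hpt⟩⟩
  let E : FractionRing R ≃ₐ[R] FT := IsLocalization.algEquiv (nonZeroDivisors R) _ _
  have hic := CAlgMisc2.isIntegrallyClosedIn_of_isNormalRing hT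
  let j : T →ₐ[R] FractionRing R := E.symm.toAlgHom.comp (IsScalarTower.toAlgHom R T FT)
  have hj : ∀ t, E (j t) = algebraMap T FT t := fun t => E.apply_symm_apply _
  have hjinj : Function.Injective j := fun x y h => hTinj (by rw [← hj, ← hj, h])
  have hjr : j.range = integralClosure R (FractionRing R) := by
    refine le_antisymm (fun x hx => ?_) fun x hx => ?_
    · obtain ⟨t, rfl⟩ := hx
      exact (Algebra.IsIntegral.isIntegral (R := R) t).map j
    · have hx' : IsIntegral T (E x) := (hx.map E).tower_top
      obtain ⟨t, ht⟩ := (isIntegrallyClosedIn_iff.1 hic).2 hx'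
      exact ⟨t, E.injective ((hj t).trans ht)⟩
  let e : T ≃ₐ[R] integralClosure R (FractionRing R) :=
    (AlgEquiv.ofInjective j hjinj).trans (Subalgebra.equivOfEq _ _ hjr)
  refine ⟨e.symm.toRingEquiv, fun b => ?_⟩
  exact e.symm.commutes (Ideal.Quotient.mk _ b)

section Cpl

variable (A : Type u) [CommRing A] [IsLocalRing A] [IsNoetherianRing A]

instance : IsNoetherianRing (EGA4.Cpl A) := Matlis6.isNoetherianRing_adicCompletion (maximalIdeal A)

/-- The normalisation of the completion. -/
theorem exists_normRed_cpl (hA : EGA4.HasGeomNormalFormalFibres A) :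
    letI := (toNormRed A).toAlgebra
    ∃ e : CAlg2.normRed (EGA4.Cpl A) ≃+* EGA4.Cpl A ⊗[A] CAlg2.normRed A,
      ∀ b, e (toNormRed (EGA4.Cpl A) b) = b ⊗ₜ[A] (1 : CAlg2.normRed A) := by
  classical
  letI := (toNormRed A).toAlgebra
  haveI : Algebra.IsIntegral A (CAlg2.normRed A) := algebraMap_isIntegral_iff.1 (toNormRed_isIntegral A)
  let C := EGA4.Cpl A
  let N := CAlg2.normRed A
  have hT : EGA4.IsNormalRing (C ⊗[A] N) :=
    S2670.result A C ⟨inferInstance, hA⟩ N (isNormalRing_normRed A (minimalPrimes.finite_of_isNoetherianRing A))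
  refine exists_normRed_equiv_of_model (Algebra.TensorProduct.includeLeftRingHom : C →+* C ⊗[A] N)
    (algebraMap_isIntegral_iff.2 (inferInstance : Algebra.IsIntegral C (C ⊗[A] N))) hT (fun b hb => ?_) fun t => ?_
  · let i : CAlg2.red A →ₐ[A] N :=
      { algebraMap (CAlg2.red A) N with commutes' := fun _ => rfl }
    have hi : Function.Injective i := fun x y h => IsFractionRing.injective (CAlg2.red A)
      (FractionRing (CAlg2.red A)) (congrArg Subtype.val h)
    have h1 : Algebra.TensorProduct.map (AlgHom.id A C) i (b ⊗ₜ[A] (1 : CAlg2.red A)) = 0 := by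
      rw [Algebra.TensorProduct.map_tmul, map_one]; exact hb
    have h2 : b ⊗ₜ[A] (1 : A ⧸ nilradical A) = 0 :=
      (injective_iff_map_eq_zero (Algebra.TensorProduct.map (AlgHom.id A C) i).toRingHom).1
        (Module.Flat.lTensor_preserves_injective_linearMap (M := C) i.toLinearMap hi) _ h1
    have h3 : Ideal.Quotient.mk ((nilradical A).map (algebraMap A C)) b = 0 := by
      apply (Algebra.TensorProduct.quotIdealMapEquivTensorQuot C (nilradical A)).injective
      rw [map_zero, Algebra.TensorProduct.quotIdealMapEquivTensorQuot_mk]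
      exact h2
    rw [Ideal.Quotient.eq_zero_iff_mem] at h3
    refine mem_nilradical.1 (Ideal.map_le_iff_le_comap.2 (fun x hx => ?_) h3)
    exact mem_nilradical.2 ((mem_nilradical.1 hx).map _)
  · induction t using TensorProduct.induction_on with
    | zero => exact ⟨0, 1, by rw [map_one]; exact one_mem _, by simp⟩
    | tmul c n =>
      obtain ⟨⟨a, r⟩, hn⟩ := IsLocalization.surj (nonZeroDivisors (CAlg2.red A)) n.1
      obtain ⟨a, rfl⟩ := Ideal.Quotient.mk_surjective a
      obtain ⟨r', hr'⟩ := Ideal.Quotient.mk_surjective r.1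
      refine ⟨c * algebraMap A C a, algebraMap A C r', ?_, ?_⟩
      · let m : N →ₗ[A] N := LinearMap.mulLeft A (toNormRed A r')
        have hm : Function.Injective m := fun x y h => Subtype.ext
          ((IsLocalization.map_units (FractionRing (CAlg2.red A)) r).mul_left_cancel (by
            have := congrArg Subtype.val h
            rw [← hr']
            exact this))
        rw [mem_nonZeroDivisors_iff_right]
        intro z hz
        refine Module.Flat.lTensor_preserves_injective_linearMap (M := C) m hm ?_
        rw [map_zero, ← hz]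
        clear hz
        induction z using TensorProduct.induction_on with
        | zero => simp
        | tmul x y =>
          show x ⊗ₜ[A] (toNormRed A r' * y) = (x ⊗ₜ[A] y) * ((algebraMap A C r') ⊗ₜ[A] (1 : N))
          rw [Algebra.TensorProduct.tmul_mul_tmul, mul_comm x, ← Algebra.smul_def, TensorProduct.smul_tmul,
            Algebra.smul_def, mul_one]
          rfl
        | add u v hu hv => simp only [map_add, add_mul, hu, hv]
      · show (c ⊗ₜ[A] n) * ((algebraMap A C r') ⊗ₜ[A] (1 : N)) = (c * algebraMap A C a) ⊗ₜ[A] (1 : N)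
        have hn' : n * toNormRed A r' = toNormRed A a := Subtype.ext (by rw [← hr'] at hn; exact hn)
        rw [Algebra.TensorProduct.tmul_mul_tmul, mul_comm c, ← Algebra.smul_def, TensorProduct.smul_tmul,
          Algebra.smul_def, mul_one, show algebraMap A N r' * n = algebraMap A N a from (mul_comm _ _).trans hn',
          Algebra.algebraMap_eq_smul_one, TensorProduct.tmul_smul, TensorProduct.smul_tmul', Algebra.smul_def,
          mul_comm]
    | add u v hu hv =>
      obtain ⟨b, s, hs, h⟩ := hu
      obtain ⟨b', s', hs', h'⟩ := hv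
      refine ⟨b * s' + b' * s, s * s', by rw [map_mul]; exact mul_mem hs hs', ?_⟩
      rw [map_mul, map_add, map_mul, map_mul, ← h, ← h']
      ring

end Cpl

end Groth.Agent.EGA43.Branches
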