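import Groth.Agent.EGA43.ConnFlat.FormalFibres

/-!
# The fraction field of the completion of a Henselian domain (EGA IV 18.9.2)
-/

set_option autoImplicit false
set_option backward.isDefEq.respectTransparency false
set_option linter.style.haveILetI false

universe u

open TensorProduct IsLocalRing

namespace Groth.Agent.EGA43.Branches

open Groth.Agent

variable (A : Type u) [CommRing A] [IsNoetherianRing A] [HenselianLocalRing A] [IsDomain A]

theorem isDomain_tensor_cpl (hA : EGA4.HasGeomNormalFormalFibres A) (D : Type u) [Field D] [Algebra A D]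
    (hD : Function.Injective (algebraMap A D)) : IsDomain (D ⊗[A] EGA4.Cpl A) := by
  let p : Ideal A := ⊥
  haveI : p.IsPrime := Ideal.isPrime_bot
  letI : Algebra p.ResidueField D := (Ideal.ResidueField.lift p (algebraMap A D) bot_le
    (fun a ha => isUnit_iff_ne_zero.2 fun h => ha ((Ideal.mem_bot (R := A)).2 (hD (h.trans (map_zero _).symm))))).toAlgebra
  haveI : IsScalarTower A p.ResidueField D :=
    IsScalarTower.of_algebraMap_eq fun x => (Ideal.ResidueField.lift_algebraMap ..).symm
  haveI := ConnFlat.isDomain_baseChange_formalFibre A hA p D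
  exact (Algebra.TensorProduct.cancelBaseChange A p.ResidueField D D (EGA4.Cpl A)).toMulEquiv.symm.isDomain

variable (K L : Type u) [Field K] [Field L] [Algebra A K] [IsFractionRing A K]
    [Algebra (EGA4.Cpl A) L] [IsFractionRing (EGA4.Cpl A) L] [Algebra K L] [Algebra A L]
    [IsScalarTower A K L] [IsScalarTower A (EGA4.Cpl A) L]

theorem isDomain_tensor_fraction (hA : EGA4.HasGeomNormalFormalFibres A) [IsDomain (EGA4.Cpl A)]
    (D : Type u) [Field D] [Algebra K D] : IsDomain (D ⊗[K] L) := by
  classical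
  letI : Algebra A D := ((algebraMap K D).comp (algebraMap A K)).toAlgebra
  haveI : IsScalarTower A K D := IsScalarTower.of_algebraMap_eq fun _ => rfl
  haveI : Module.Flat A K := IsLocalization.flat K (nonZeroDivisors A)
  haveI : Module.Flat A D := Module.Flat.trans A K D
  haveI := isDomain_tensor_cpl A hA D ((algebraMap K D).injective.comp (IsFractionRing.injective A K))
  let ι : EGA4.Cpl A →ₐ[A] L := IsScalarTower.toAlgHom A (EGA4.Cpl A) L
  let g := Algebra.TensorProduct.map (AlgHom.id A D) ι
  have hg : Function.Injective g := Module.Flat.lTensor_preserves_injective_linearMap (M := D) ι.toLinearMap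
    (IsFractionRing.injective (EGA4.Cpl A) L)
  have hden : ∀ x : D ⊗[A] L, ∃ (s : EGA4.Cpl A) (y : D ⊗[A] EGA4.Cpl A), s ≠ 0 ∧ x * ((1 : D) ⊗ₜ[A] ι s) = g y := by
    intro x
    induction x using TensorProduct.induction_on with
    | zero => exact ⟨1, 0, one_ne_zero, by simp⟩
    | tmul d l =>
      obtain ⟨⟨b, s, hs⟩, hl⟩ := IsLocalization.surj (nonZeroDivisors (EGA4.Cpl A)) l
      refine ⟨s, d ⊗ₜ[A] b, nonZeroDivisors.ne_zero hs, ?_⟩
      rw [Algebra.TensorProduct.tmul_mul_tmul, mul_one]
      exact congrArg (fun z => d ⊗ₜ[A] z) hl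
    | add u v hu hv =>
      obtain ⟨s, y, hs, h⟩ := hu
      obtain ⟨s', y', hs', h'⟩ := hv
      refine ⟨s * s', y * ((1 : D) ⊗ₜ[A] s') + y' * ((1 : D) ⊗ₜ[A] s), mul_ne_zero hs hs', ?_⟩
      have hgs : ∀ t, g ((1 : D) ⊗ₜ[A] t) = (1 : D) ⊗ₜ[A] ι t := fun t => Algebra.TensorProduct.map_tmul ..
      rw [map_add, map_mul g y, map_mul g y', ← h, ← h', hgs, hgs, map_mul ι,
        show ((1 : D) ⊗ₜ[A] (ι s * ι s')) = ((1 : D) ⊗ₜ[A] ι s) * ((1 : D) ⊗ₜ[A] ι s') by
          rw [Algebra.TensorProduct.tmul_mul_tmul, one_mul]]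
      ring
  have hunit : ∀ s : EGA4.Cpl A, s ≠ 0 → IsUnit ((1 : D) ⊗ₜ[A] ι s) := fun s hs =>
    (isUnit_iff_ne_zero.2 ((map_ne_zero_iff _ (IsFractionRing.injective (EGA4.Cpl A) L)).2 hs)).map
      (Algebra.TensorProduct.includeRight : L →ₐ[A] D ⊗[A] L)
  haveI : Nontrivial (D ⊗[A] L) := hg.nontrivial
  haveI : NoZeroDivisors (D ⊗[A] L) := ⟨fun {u v} huv => by
    obtain ⟨s, y, hs, h⟩ := hden u
    obtain ⟨s', y', hs', h'⟩ := hden v
    have h0 : g (y * y') = g 0 := by
      rw [map_mul, ← h, ← h', map_zero, mul_mul_mul_comm, huv, zero_mul]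
    rcases mul_eq_zero.1 (hg h0) with h1 | h1
    · exact Or.inl ((hunit s hs).mul_left_eq_zero.1 (by rw [h, h1, map_zero]))
    · exact Or.inr ((hunit s' hs').mul_left_eq_zero.1 (by rw [h', h1, map_zero]))⟩
  haveI : IsDomain (D ⊗[A] L) := NoZeroDivisors.to_isDomain _
  haveI := IsLocalization.tensorProduct_compatibleSMul (nonZeroDivisors A) K D L
  exact (Algebra.TensorProduct.equivOfCompatibleSMul K A A D L).symm.toMulEquiv.isDomain

/-- EGA IV 18.9.2: the fraction field of the completion is a regular extension. -/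
theorem geomReduced_and_algClosed (hA : EGA4.HasGeomNormalFormalFibres A) [IsDomain (EGA4.Cpl A)] :
    Algebra.IsGeometricallyReduced K L ∧ ∀ x : L, IsAlgebraic K x → x ∈ Set.range (algebraMap K L) := by
  refine ⟨?_, fun x hx => ?_⟩
  · haveI := isDomain_tensor_fraction A K L hA (AlgebraicClosure K)
    rw [Algebra.isGeometricallyReduced_field_iff]
    infer_instance
  let D := IntermediateField.adjoin K ({x} : Set L)
  haveI : FiniteDimensional K D := IntermediateField.adjoin.finiteDimensional hx.isIntegral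
  haveI := isDomain_tensor_fraction A K L hA D
  let g := Algebra.TensorProduct.map (AlgHom.id K D) D.val
  haveI : IsDomain ((↥D) ⊗[K] (↥D)) := Function.Injective.isDomain g
    (Module.Flat.lTensor_preserves_injective_linearMap (M := (↥D)) D.val.toLinearMap Subtype.val_injective)
  haveI : Algebra.IsIntegral K ((↥D) ⊗[K] (↥D)) := Algebra.IsIntegral.of_finite K _
  letI := (isField_of_isIntegral_of_isField' (R := K) (S := (↥D) ⊗[K] (↥D)) (Field.toIsField K)).toField
  let μ := Algebra.TensorProduct.lmul' K (S := ↥D)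
  have hμ : Function.Injective μ := μ.toRingHom.injective
  have hle := LinearMap.finrank_le_finrank_of_injective (f := μ.toLinearMap) hμ
  rw [Module.finrank_tensorProduct] at hle
  have h1 : Module.finrank K D = 1 := by
    have h0 : 0 < Module.finrank K D := Module.finrank_pos
    nlinarith
  have hbot := IntermediateField.finrank_eq_one_iff.1 h1
  exact IntermediateField.mem_bot.1 (hbot ▸ IntermediateField.mem_adjoin_simple_self K x : x ∈ (⊥ : IntermediateField K L))

end Groth.Agent.EGA43.Branches
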